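import Groth.Agent.Dual.Split
import Groth.Agent.RepDesc.Iso
import Groth.Agent.RepDesc.Group
import Groth.Agent.GrpSchLib.MultTypeBC
import Groth.Agent.AlgSpDec.HenselLift
import Groth.Agent.MorLib.IndQA
import Groth.Agent.GrpSchLib.RankOneBase
import Mathlib.AlgebraicGeometry.Morphisms.Etale

/-!
# Homomorphisms of groups of multiplicative type, locally split for the étale topology
-/

set_option autoImplicit false
set_option linter.style.haveILetI false
set_option linter.unusedSectionVars false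
set_option backward.isDefEq.respectTransparency false
set_option backward.isDefEq.respectTransparency.types false

universe u

open CategoryTheory CategoryTheory.Limits MonoidalCategory CartesianMonoidalCategory MonObj AlgebraicGeometry

namespace Groth.Agent.Dual

theorem indQA_const (X : Scheme.{u}) (I : Type u) : MoreMor.IsIndQuasiAffineHom (TwC.const X I).hom := by
  haveI : Etale (Sigma.desc fun _ : I => 𝟙 X) :=
    IsZariskiLocalAtSource.sigmaDesc (P := @Etale) fun _ => inferInstance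
  haveI : IsSeparated (Sigma.desc fun _ : I => 𝟙 X) :=
    AlgSpDec.isSeparated_sigmaDesc _ fun _ => inferInstance
  haveI : LocallyQuasiFinite (Sigma.desc fun _ : I => 𝟙 X) := inferInstance
  exact MorLib.IQA.indQA_of_locallyQuasiFinite (Sigma.desc fun _ : I => 𝟙 X)

variable {S : Scheme.{u}}

/-- The additive law of homomorphisms of split groups. -/
theorem psiX_add {X : Scheme.{u}} {f : X ⟶ S} {H G : Over S} [GrpObj H] [GrpObj G] {M N : Type} [AddCommGroup M]
    [AddCommGroup N] (eH : Grp.mk (Red.bc f H) ≅ Grp.mk (Red.DS X M)) (eG : Grp.mk (Red.bc f G) ≅ Grp.mk (Red.DS X N))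
    (φ₁ φ₂ : N →+ M) : psiX eH eG φ₁ * psiX eH eG φ₂ = psiX eH eG (φ₁ + φ₂) := by
  haveI : IsMonHom eG.inv.hom.hom := eG.inv.hom.isMonHom_hom
  unfold psiX
  rw [← MonObj.comp_mul, ← MonObj.mul_comp]
  congr 2
  refine Over.OverMorphism.ext (Scheme.Cover.hom_ext (Red.DS X M).left.affineCover _ _ fun i => ?_)
  obtain ⟨B, hB⟩ : ∃ B : CommRingCat.{u}, (Red.DS X M).left.affineCover.X i = Spec B := ⟨_, rfl⟩
  rw [← cancel_epi (eqToHom hB.symm), ← Category.assoc (eqToHom hB.symm), ← Category.assoc (eqToHom hB.symm)]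
  generalize eqToHom hB.symm ≫ (Red.DS X M).left.affineCover.f i = q
  let j : Spec (CommRingCat.of B) ⟶ X := q ≫ (Red.DS X M).hom
  let x : DSPtsLib.spU j ⟶ Red.DS X M := Over.homMk q rfl
  obtain ⟨c, hc⟩ := DSPtsLib.exists_eq_pt j x
  have hmap : ∀ φ : N →+ M, x ≫ Red.DSmap X φ = DSPtsLib.pt j (GrpSchLib.SubgroupFactor.pull φ c) := by
    intro φ
    rw [hc]
    refine Over.OverMorphism.ext (pullback.hom_ext ?_ ?_)
    · rw [DSPtsLib.pt_fst, Over.comp_left, Category.assoc]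
      simp only [Red.DSmap, Over.pullback_map_left, Limits.pullback.lift_fst]
      rw [← Category.assoc, DSPtsLib.pt_fst]
      exact (Spec.map_comp _ _).symm
    · exact (Over.w _).trans (pullback.lift_snd _ _ _).symm
  refine congrArg (fun m : DSPtsLib.spU j ⟶ Red.DS X N => m.left)
    (show x ≫ (Red.DSmap X φ₁ * Red.DSmap X φ₂) = x ≫ Red.DSmap X (φ₁ + φ₂) from ?_)
  rw [MonObj.comp_mul, hmap, hmap, hmap]
  refine DSPtsLib.pt_mul j _ _ _ fun m => ?_
  simp only [GrpSchLib.SubgroupFactor.pull_single, ← map_mul, MonoidAlgebra.single_mul_single, _root_.one_mul]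
  congr 2

/-- Homomorphisms between groups split over the members of an étale covering form a scheme, constant on the members. -/
theorem exists_homs {H G : Over S} [GrpObj H] [GrpObj G] {ι₀ : Type u} {X : ι₀ → Scheme.{u}} (f : ∀ i, X i ⟶ S)
    [∀ i, Etale (f i)] (hcov : ∀ s : S, ∃ i, s ∈ Set.range (f i)) (M N : ι₀ → Type) [∀ i, AddCommGroup (M i)]
    [∀ i, AddCommGroup (N i)] (hN : ∀ i, AddGroup.FG (N i))
    (eH : ∀ i, Grp.mk (Red.bc (f i) H) ≅ Grp.mk (Red.DS (X i) (M i)))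
    (eG : ∀ i, Grp.mk (Red.bc (f i) G) ≅ Grp.mk (Red.DS (X i) (N i))) :
    ∃ (A : Over S) (w : H ⊗ A ⟶ G), AutFam.RepresentsHom H G A w ∧
      ∀ i, ∃ e : Red.bc (f i) A ≅ TwC.const (X i) (Idx.{u} (M i) (N i)), ∀ (φ : Idx.{u} (M i) (N i))
        (a : Over.mk (f i) ⟶ A), a.left = (TwC.pt (X i) (Idx.{u} (M i) (N i)) φ ≫ e.inv).left ≫ pullback.fst A.hom (f i) →
          (H ◁ a) ≫ w = psi (eH i) (eG i) φ.down := by
  choose υ hυ hcomp hun using fun i => @exists_univOn _ _ _ _ _ _ _ _ _ _ _ (eH i) (eG i) (hN i)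
  have hf : Presieve.ofArrows X f ∈ Scheme.fpqcPrecoverage S :=
    Scheme.fppfPrecoverage_le_fpqcPrecoverage _
      ((Scheme.presieve₀_mem_precoverage_iff (P := @Flat ⊓ @LocallyOfFinitePresentation) ⟨ι₀, X, f⟩).mpr
        ⟨hcov, fun i => ⟨inferInstanceAs (Flat (f i)), inferInstanceAs (LocallyOfFinitePresentation (f i))⟩⟩)
  have hV : ∀ i, RepDesc.IsUnivOn f H G i (TwC.const (X i) (Idx.{u} (M i) (N i))) (υ i) := fun i => ⟨hυ i, hun i⟩
  obtain ⟨A, w, hA⟩ := RepDesc.exists_representsHom hf _ υ hV fun i => indQA_const _ _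
  refine ⟨A, w, hA, fun i => ?_⟩
  obtain ⟨e, he⟩ := RepDesc.exists_iso hA (hV i)
  refine ⟨e, fun φ a ha => ?_⟩
  let p := TwC.pt (X i) (Idx.{u} (M i) (N i)) φ ≫ e.inv
  let b : Over.mk (f i) ⟶ RepDesc.below f ((Over.pullback (f i)).obj A) := Over.homMk p.left (by
    show p.left ≫ pullback.snd A.hom (f i) ≫ f i = f i
    rw [← Category.assoc]
    exact (congrArg (· ≫ f i) (Over.w p)).trans (Category.id_comp _))
  have h := he _ b
  rw [show b ≫ RepDesc.proj A i = a from Over.OverMorphism.ext ha.symm] at h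
  rw [← h, ← hcomp i φ]
  refine congrArg (fun m => (H ◁ m) ≫ υ i) (Over.OverMorphism.ext ?_)
  have h2 : (p ≫ e.hom).left = (TwC.pt (X i) (Idx.{u} (M i) (N i)) φ).left := by
    show ((TwC.pt (X i) (Idx.{u} (M i) (N i)) φ ≫ e.inv) ≫ e.hom).left = _
    rw [Category.assoc, Iso.inv_hom_id, Category.comp_id]
  exact h2

end Groth.Agent.Dual

namespace Groth.Agent.Dual

variable {S : Scheme.{u}}

/-- The additive law, for the families. -/
theorem psi_add {X : Scheme.{u}} {f : X ⟶ S} {H G : Over S} [GrpObj H] [GrpObj G] {M N : Type} [AddCommGroup M]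
    [AddCommGroup N] (eH : Grp.mk (Red.bc f H) ≅ Grp.mk (Red.DS X M)) (eG : Grp.mk (Red.bc f G) ≅ Grp.mk (Red.DS X N))
    (φ₁ φ₂ : N →+ M) : psi eH eG φ₁ * psi eH eG φ₂ = psi eH eG (φ₁ + φ₂) := by
  let j : H ⊗ Over.mk f ⟶ (Over.map f).obj (Red.bc f H) := Over.homMk (𝟙 _) (by
    show 𝟙 _ ≫ pullback.snd H.hom f ≫ f = (H ⊗ Over.mk f).hom
    rw [Category.id_comp]
    exact Over.w (snd H (Over.mk f)))
  have h : ∀ φ, psi eH eG φ = j ≫ DSPtsLib.theta f (psiX eH eG φ) := fun φ => by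
    refine Over.OverMorphism.ext ?_
    rw [Over.comp_left, DSPtsLib.theta_left]
    exact (Category.id_comp _).symm
  rw [h, h, h, ← MonObj.comp_mul, ← DSPtsLib.theta_mul, psiX_add]

/-- A common étale neighbourhood splitting two groups. -/
theorem exists_common {H G : Over S} [GrpObj H] [GrpObj G]
    {SH SG : Scheme.{u}} (fH : SH ⟶ S) (fG : SG ⟶ S) [Etale fH] [Etale fG] {M N : Type} [AddCommGroup M]
    [AddCommGroup N] (eH : Grp.mk (Red.bc fH H) ≅ Grp.mk (Red.DS SH M))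
    (eG : Grp.mk (Red.bc fG G) ≅ Grp.mk (Red.DS SG N)) :
    Nonempty (Grp.mk (Red.bc (pullback.fst fH fG ≫ fH) H) ≅ Grp.mk (Red.DS (pullback fH fG) M)) ∧
      Nonempty (Grp.mk (Red.bc (pullback.fst fH fG ≫ fH) G) ≅ Grp.mk (Red.DS (pullback fH fG) N)) := by
  obtain ⟨a₁⟩ := GrpSchLib.MultTypeBC.bc_bc (pullback.fst fH fG) fH H
  obtain ⟨a₂⟩ := GrpSchLib.MultTypeBC.bc_iso (pullback.fst fH fG) eH
  obtain ⟨a₃⟩ := GrpSchLib.MultTypeBC.bc_DS (pullback.fst fH fG) M
  obtain ⟨b₀⟩ := GrpSchLib.MultTypeBC.bc_congr (pullback.condition (f := fH) (g := fG)) G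
  obtain ⟨b₁⟩ := GrpSchLib.MultTypeBC.bc_bc (pullback.snd fH fG) fG G
  obtain ⟨b₂⟩ := GrpSchLib.MultTypeBC.bc_iso (pullback.snd fH fG) eG
  obtain ⟨b₃⟩ := GrpSchLib.MultTypeBC.bc_DS (pullback.snd fH fG) N
  exact ⟨⟨a₁.symm ≪≫ a₂ ≪≫ a₃⟩, ⟨b₀ ≪≫ b₁.symm ≪≫ b₂ ≪≫ b₃⟩⟩

end Groth.Agent.Dual
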