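import Groth.Agent.GrpSchLib.SubgroupFactor
import Groth.Agent.S5427
import Groth.Prelude.Def_AutFam

/-!
# Homomorphisms between split groups given by homomorphisms of the character groups
-/

set_option autoImplicit false
set_option linter.style.haveILetI false
set_option linter.unusedSectionVars false
set_option backward.isDefEq.respectTransparency false
set_option backward.isDefEq.respectTransparency.types false

universe u

open CategoryTheory CategoryTheory.Limits MonoidalCategory CartesianMonoidalCategory MonObj AlgebraicGeometry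

namespace Groth.Agent.Dual

open GrpSchLib GrpSchLib.DiagActionRigid GrpSchLib.SubgroupFactor DSPtsLib

variable {S X : Scheme.{u}} {f : X ⟶ S} {H G : Over S} [GrpObj H] [GrpObj G] {M N : Type} [AddCommGroup M]
  [AddCommGroup N]
  (eH : Grp.mk (Red.bc f H) ≅ Grp.mk (Red.DS X M)) (eG : Grp.mk (Red.bc f G) ≅ Grp.mk (Red.DS X N))

/-- The points of a group split over `X` given by characters, over a ring mapping to `X`. -/
noncomputable def chi {R : Type u} [CommRing R] {β : Spec (CommRingCat.of R) ⟶ S}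
    (jR : Spec (CommRingCat.of R) ⟶ X) (hjR : jR ≫ f = β) (T : Type u) [CommRing T] [Algebra R T]
    (c : CoordM.{u} M →+* T) : DiagActionRigid.sp β T ⟶ H :=
  (Over.homMk (𝟙 _) (by
      show 𝟙 _ ≫ (Spec.map (CommRingCat.ofHom (algebraMap R T)) ≫ jR) ≫ f = _ ≫ β
      rw [Category.id_comp, Category.assoc, hjR]) :
    DiagActionRigid.sp β T ⟶ (Over.map f).obj (DSPtsLib.spU (Spec.map (CommRingCat.ofHom (algebraMap R T)) ≫ jR))) ≫
    DSPtsLib.theta f (DSPtsLib.pt (Spec.map (CommRingCat.ofHom (algebraMap R T)) ≫ jR) c ≫ eH.inv.hom.hom)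

section Props

variable {R : Type u} [CommRing R] {β : Spec (CommRingCat.of R) ⟶ S} (jR : Spec (CommRingCat.of R) ⟶ X)
  (hjR : jR ≫ f = β)

theorem chi_nat {T T' : Type u} [CommRing T] [Algebra R T] [CommRing T'] [Algebra R T'] (φ : T →ₐ[R] T')
    (c : CoordM.{u} M →+* T) : spm β φ ≫ chi eH jR hjR T c = chi eH jR hjR T' (φ.toRingHom.comp c) := by
  have hj : Spec.map (CommRingCat.ofHom φ.toRingHom) ≫ Spec.map (CommRingCat.ofHom (algebraMap R T)) ≫ jR =
      Spec.map (CommRingCat.ofHom (algebraMap R T')) ≫ jR := by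
    rw [← Spec.map_comp_assoc, ← CommRingCat.ofHom_comp]
    congr 3
    exact φ.comp_algebraMap
  let tr : ∀ (T : Type u) [CommRing T] [Algebra R T],
      DiagActionRigid.sp β T ⟶ (Over.map f).obj (DSPtsLib.spU (Spec.map (CommRingCat.ofHom (algebraMap R T)) ≫ jR)) :=
    fun T _ _ => Over.homMk (𝟙 _) (by
      show 𝟙 _ ≫ (_ ≫ jR) ≫ f = _ ≫ β
      rw [Category.id_comp, Category.assoc, hjR])
  have htrn : spm β φ ≫ tr T = tr T' ≫ (Over.map f).map (Over.homMk (Spec.map (CommRingCat.ofHom φ.toRingHom)) hj :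
      DSPtsLib.spU (Spec.map (CommRingCat.ofHom (algebraMap R T')) ≫ jR) ⟶
        DSPtsLib.spU (Spec.map (CommRingCat.ofHom (algebraMap R T)) ≫ jR)) := by
    refine Over.OverMorphism.ext ?_
    show Spec.map _ ≫ 𝟙 _ = 𝟙 _ ≫ Spec.map _
    rw [Category.id_comp, Category.comp_id]
  show spm β φ ≫ tr T ≫ _ = tr T' ≫ _
  rw [← DSPtsLib.pt_comp _ c φ.toRingHom _ hj, ← Category.assoc, htrn, Category.assoc]
  simp only [DSPtsLib.theta_comp, Category.assoc]

theorem chi_mul {T : Type u} [CommRing T] [Algebra R T] (c c' d : CoordM.{u} M →+* T)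
    (h : ∀ m, d (MonoidAlgebra.single m 1) = c (MonoidAlgebra.single m 1) * c' (MonoidAlgebra.single m 1)) :
    chi eH jR hjR T c * chi eH jR hjR T c' = chi eH jR hjR T d := by
  haveI : IsMonHom eH.inv.hom.hom := eH.inv.hom.isMonHom_hom
  have e2 := MonObj.mul_comp (DSPtsLib.pt (Spec.map (CommRingCat.ofHom (algebraMap R T)) ≫ jR) c)
    (DSPtsLib.pt (Spec.map (CommRingCat.ofHom (algebraMap R T)) ≫ jR) c') eH.inv.hom.hom
  unfold chi
  rw [← MonObj.comp_mul, ← DSPtsLib.theta_mul, ← e2, DSPtsLib.pt_mul _ c c' d h]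

theorem chi_bij (T : Type u) [CommRing T] [Algebra R T] : Function.Bijective (chi eH jR hjR T) := by
  let ei : Red.bc f H ≅ Red.DS X M :=
    ⟨eH.hom.hom.hom, eH.inv.hom.hom, congrArg (fun h => h.hom.hom) eH.hom_inv_id,
      congrArg (fun h => h.hom.hom) eH.inv_hom_id⟩
  let tr : DiagActionRigid.sp β T ⟶ (Over.map f).obj (DSPtsLib.spU (Spec.map (CommRingCat.ofHom (algebraMap R T)) ≫ jR)) :=
    Over.homMk (𝟙 _) (by
      show 𝟙 _ ≫ (Spec.map (CommRingCat.ofHom (algebraMap R T)) ≫ jR) ≫ f = _ ≫ β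
      rw [Category.id_comp, Category.assoc, hjR])
  have htr : IsIso tr := by
    haveI : IsIso ((Over.forget S).map tr) := inferInstanceAs (IsIso (𝟙 _))
    exact isIso_of_reflects_iso _ (Over.forget S)
  refine ⟨fun c c' h => ?_, fun g => ?_⟩
  · have h1 := (DSPtsLib.theta_bijective (H := H) f).1 ((cancel_epi tr).mp h)
    haveI : Mono eH.inv.hom.hom := inferInstanceAs (Mono ei.inv)
    rw [cancel_mono] at h1
    exact HomMonoLocus.pt_injective _ h1
  · obtain ⟨w, hw⟩ := (DSPtsLib.theta_bijective (H := H) f).2 (inv tr ≫ g)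
    obtain ⟨c, hc⟩ := DSPtsLib.exists_eq_pt _ (w ≫ ei.hom)
    refine ⟨c, ?_⟩
    show tr ≫ DSPtsLib.theta f (DSPtsLib.pt _ c ≫ ei.inv) = g
    rw [← hc, Category.assoc, Iso.hom_inv_id, Category.comp_id, hw, IsIso.hom_inv_id_assoc]

end Props

/-- The homomorphism over `X` of a homomorphism of character groups. -/
noncomputable def psiX (φ : N →+ M) : Red.bc f H ⟶ Red.bc f G :=
  eH.hom.hom.hom ≫ Red.DSmap X φ ≫ eG.inv.hom.hom

instance (φ : N →+ M) : IsMonHom (psiX eH eG φ) := by
  haveI : IsMonHom eH.hom.hom.hom := eH.hom.hom.isMonHom_hom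
  haveI : IsMonHom eG.inv.hom.hom := eG.inv.hom.isMonHom_hom
  haveI := Groth.Agent.S5427.isMonHom_DSmap X φ
  unfold psiX
  infer_instance

/-- The same homomorphism, as a family parametrised by `X` over the base. -/
noncomputable def psi (φ : N →+ M) : H ⊗ Over.mk f ⟶ G :=
  Over.homMk ((psiX eH eG φ).left ≫ pullback.fst G.hom f) (by
    rw [Category.assoc, pullback.condition, ← Category.assoc,
      show (psiX eH eG φ).left ≫ pullback.snd G.hom f = pullback.snd H.hom f from Over.w (psiX eH eG φ)]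
    exact Over.w (snd H (Over.mk f)))

/-- An `X`-point over the base. -/
noncomputable def jMap {T : Over S} (t : T ⟶ Over.mk f) : T ⟶ (Over.map f).obj (Over.mk t.left) :=
  Over.homMk (𝟙 _) (by
    show 𝟙 _ ≫ t.left ≫ f = T.hom
    rw [Category.id_comp]
    exact Over.w t)

theorem jMap_bij {T : Over S} (t : T ⟶ Over.mk f) (Y : Over S) :
    Function.Bijective fun a : Over.mk t.left ⟶ Red.bc f Y => jMap t ≫ theta f a := by
  haveI : IsIso (jMap t) := by
    haveI : IsIso ((Over.forget S).map (jMap t)) := inferInstanceAs (IsIso (𝟙 _))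
    exact isIso_of_reflects_iso _ (Over.forget S)
  exact ((Iso.homFromEquiv (asIso (jMap t)).symm).bijective).comp (DSPtsLib.theta_bijective f)

theorem lift_psi (φ : N →+ M) {T : Over S} (t : T ⟶ Over.mk f) (a : Over.mk t.left ⟶ Red.bc f H) :
    lift (jMap t ≫ theta f a) t ≫ psi eH eG φ = jMap t ≫ theta f (a ≫ psiX eH eG φ) := by
  refine Over.OverMorphism.ext ?_
  have h : (lift (jMap t ≫ theta f a) t : T ⟶ H ⊗ Over.mk f).left = a.left := by
    apply pullback.hom_ext
    · refine (congrArg CommaMorphism.left (lift_fst (jMap t ≫ theta f a) t)).trans ?_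
      show (jMap t).left ≫ (theta f a).left = _
      rw [theta_left]
      exact Category.id_comp _
    · exact (congrArg CommaMorphism.left (lift_snd (jMap t ≫ theta f a) t)).trans (Over.w a).symm
  show (lift (jMap t ≫ theta f a) t : T ⟶ H ⊗ Over.mk f).left ≫ (psiX eH eG φ).left ≫ pullback.fst G.hom f =
    (jMap t).left ≫ (theta f (a ≫ psiX eH eG φ)).left
  rw [h, theta_left, Over.comp_left, Category.assoc]
  exact (Category.id_comp _).symm

theorem psi_hom (φ : N →+ M) : AutFam.IsHomFamily H G (psi eH eG φ) := by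
  intro T g₁ g₂ t
  obtain ⟨a₁, rfl⟩ := (jMap_bij t H).2 g₁
  obtain ⟨a₂, rfl⟩ := (jMap_bij t H).2 g₂
  simp only [← MonObj.comp_mul, ← DSPtsLib.theta_mul, lift_psi, MonObj.mul_comp]

theorem chi_psi {R : Type u} [CommRing R] {β : Spec (CommRingCat.of R) ⟶ S} (jR : Spec (CommRingCat.of R) ⟶ X)
    (hjR : jR ≫ f = β) (φ : N →+ M) (T : Type u) [CommRing T] [Algebra R T] (c : CoordM.{u} M →+* T)
    (t : DiagActionRigid.sp β T ⟶ Over.mk f) (ht : t.left = Spec.map (CommRingCat.ofHom (algebraMap R T)) ≫ jR) :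
    lift (chi eH jR hjR T c) t ≫ psi eH eG φ = chi eG jR hjR T (pull φ c) := by
  have t₀ : (Spec.map (CommRingCat.ofHom (algebraMap R T)) ≫ jR) ≫ (Over.mk f).hom = (DiagActionRigid.sp β T).hom := by
    show (_ ≫ jR) ≫ f = _ ≫ β
    rw [Category.assoc, hjR]
  rw [show t = Over.homMk (Spec.map (CommRingCat.ofHom (algebraMap R T)) ≫ jR) t₀ from Over.OverMorphism.ext ht]
  have h1 := lift_psi eH eG φ (Over.homMk (Spec.map (CommRingCat.ofHom (algebraMap R T)) ≫ jR) t₀ :
      DiagActionRigid.sp β T ⟶ Over.mk f)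
    ((DSPtsLib.pt (Spec.map (CommRingCat.ofHom (algebraMap R T)) ≫ jR) c ≫ eH.inv.hom.hom :
      DSPtsLib.spU (Spec.map (CommRingCat.ofHom (algebraMap R T)) ≫ jR) ⟶ Red.bc f H))
  refine h1.trans ?_
  have h2 : (DSPtsLib.pt (Spec.map (CommRingCat.ofHom (algebraMap R T)) ≫ jR) c ≫ eH.inv.hom.hom) ≫
      psiX eH eG φ = DSPtsLib.pt (Spec.map (CommRingCat.ofHom (algebraMap R T)) ≫ jR) (pull φ c) ≫ eG.inv.hom.hom := by
    have hi : eH.inv.hom.hom ≫ eH.hom.hom.hom = 𝟙 _ := congrArg (fun h => h.hom.hom) eH.inv_hom_id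
    unfold psiX
    simp only [Category.assoc, reassoc_of% hi]
    rw [← Category.assoc]
    congr 1
    refine Over.OverMorphism.ext (pullback.hom_ext ?_ ?_)
    · rw [pt_fst, Over.comp_left, Category.assoc]
      simp only [Red.DSmap, Over.pullback_map_left, Limits.pullback.lift_fst]
      rw [← Category.assoc, pt_fst]
      exact (Spec.map_comp _ _).symm
    · exact (Over.w _).trans (pullback.lift_snd _ _ _).symm
  exact congrArg (fun z => jMap _ ≫ theta f z) h2

end Groth.Agent.Dual
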