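import Groth.Agent.Dual.Chart
import Groth.Agent.RepDesc.Hom
import Groth.Agent.HomScheme.Monomial
import Groth.Agent.RepLocal.Glue
import Groth.Agent.TwDescend.Const

/-!
# Homomorphisms between split groups of multiplicative type form a constant scheme
-/

set_option autoImplicit false
set_option linter.style.haveILetI false
set_option linter.unusedSectionVars false
set_option backward.isDefEq.respectTransparency false
set_option backward.isDefEq.respectTransparency.types false
set_option maxHeartbeats 1600000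

universe u

open CategoryTheory CategoryTheory.Limits MonoidalCategory CartesianMonoidalCategory MonObj AlgebraicGeometry

namespace Groth.Agent.Dual

open GrpSchLib GrpSchLib.DiagActionRigid GrpSchLib.SubgroupFactor DSPtsLib
open RepLocal (opOver opIncl opMap opMap_incl)

variable {S X : Scheme.{u}} {f : X ⟶ S} {H G : Over S} [GrpObj H] [GrpObj G] {M N : Type} [AddCommGroup M]
  [AddCommGroup N]
  (eH : Grp.mk (Red.bc f H) ≅ Grp.mk (Red.DS X M)) (eG : Grp.mk (Red.bc f G) ≅ Grp.mk (Red.DS X N))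

/-- Homomorphisms of the character groups, in the universe of the schemes. -/
abbrev Idx (M N : Type) [AddCommGroup M] [AddCommGroup N] : Type u := ULift.{u} (N →+ M)

/-- The constant scheme of homomorphisms, over the base. -/
noncomputable abbrev homs (f : X ⟶ S) (M N : Type) [AddCommGroup M] [AddCommGroup N] : Over S :=
  Over.mk ((TwC.const X (Idx.{u} M N)).hom ≫ f)

/-- A component of the constant scheme. -/
noncomputable def comp' (f : X ⟶ S) (i : Idx.{u} M N) : Over.mk f ⟶ homs f M N :=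
  Over.homMk (Sigma.ι (fun _ : Idx.{u} M N => X) i) (by
    show Sigma.ι _ i ≫ (Sigma.desc fun _ => 𝟙 X) ≫ f = f
    rw [Sigma.ι_desc_assoc, Category.id_comp])

theorem exists_comp (f : X ⟶ S) {T : Over S} (v : T ⟶ homs f M N) (i : Idx.{u} M N) :
    ∃ x : opOver T (v.left ⁻¹ᵁ (Sigma.ι (fun _ : Idx.{u} M N => X) i).opensRange) ⟶ Over.mk f,
      x ≫ comp' f i = opIncl T _ ≫ v := by
  let U := v.left ⁻¹ᵁ (Sigma.ι (fun _ : Idx.{u} M N => X) i).opensRange
  have hr : Set.range (U.ι ≫ v.left) ⊆ Set.range (Sigma.ι (fun _ : Idx.{u} M N => X) i) := by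
    rintro _ ⟨z, rfl⟩
    exact z.2
  refine ⟨Over.homMk (IsOpenImmersion.lift (Sigma.ι (fun _ : Idx.{u} M N => X) i) _ hr) ?_,
    Over.OverMorphism.ext (IsOpenImmersion.lift_fac _ _ _)⟩
  show IsOpenImmersion.lift _ _ hr ≫ f = U.ι ≫ T.hom
  refine Eq.trans ?_ (congrArg (U.ι ≫ ·) (Over.w v))
  refine Eq.trans ?_ (Category.assoc _ _ _)
  refine Eq.trans ?_ (congrArg (· ≫ (homs f M N).hom)
    (IsOpenImmersion.lift_fac (Sigma.ι (fun _ : Idx.{u} M N => X) i) _ hr))
  show _ = (_ ≫ Sigma.ι _ i) ≫ (Sigma.desc fun _ => 𝟙 X) ≫ f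
  rw [Category.assoc, Sigma.ι_desc_assoc, Category.id_comp]

theorem exists_univ_family : ∃ υ : H ⊗ homs f M N ⟶ G, AutFam.IsHomFamily H G υ ∧
    ∀ {T : Over S} (g : T ⟶ H) (x : T ⟶ Over.mk f) (i : Idx.{u} M N),
      lift g (x ≫ comp' f i) ≫ υ = lift g x ≫ psi eH eG i.down := by
  classical
  have hsq := (TwDescend.isPullback_sigmaMap_desc (pullback.snd H.hom f) (Idx.{u} M N)).flip.paste_horiz
    (IsPullback.of_hasPullback H.hom f)
  let υ : H ⊗ homs f M N ⟶ G :=
    Over.homMk (hsq.isoPullback.inv ≫ Sigma.desc fun i : Idx.{u} M N => (psi eH eG i.down).left) (by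
      rw [← cancel_epi hsq.isoPullback.hom, Category.assoc, Iso.hom_inv_id_assoc]
      refine Sigma.hom_ext _ _ fun i => ?_
      rw [Sigma.ι_desc_assoc, ← Over.w (fst H (homs f M N))]
      show (psi eH eG i.down).left ≫ G.hom = _ ≫ _ ≫ pullback.fst H.hom _ ≫ H.hom
      rw [hsq.isoPullback_hom_fst_assoc, Category.assoc, Sigma.ι_desc_assoc, Category.id_comp, Over.w]
      exact (Over.w (fst H (Over.mk f))).symm)
  have key : ∀ {T : Over S} (g : T ⟶ H) (x : T ⟶ Over.mk f) (i : Idx.{u} M N),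
      lift g (x ≫ comp' f i) ≫ υ = lift g x ≫ psi eH eG i.down := by
    intro T g x i
    refine Over.OverMorphism.ext ?_
    have e : (lift g (x ≫ comp' f i) : T ⟶ H ⊗ homs f M N).left =
        (lift g x : T ⟶ H ⊗ Over.mk f).left ≫ Sigma.ι (fun _ : Idx.{u} M N => pullback H.hom f) i ≫ hsq.isoPullback.hom := by
      apply pullback.hom_ext
      · refine (congrArg CommaMorphism.left (lift_fst g (x ≫ comp' f i))).trans ?_
        rw [Category.assoc, Category.assoc]
        erw [hsq.isoPullback_hom_fst, Sigma.ι_desc_assoc, Category.id_comp]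
        exact (congrArg CommaMorphism.left (lift_fst g x)).symm
      · refine (congrArg CommaMorphism.left (lift_snd g (x ≫ comp' f i))).trans ?_
        rw [Category.assoc, Category.assoc]
        erw [hsq.isoPullback_hom_snd, Sigma.ι_map]
        show x.left ≫ Sigma.ι (fun _ : Idx.{u} M N => X) i = _
        rw [← Category.assoc]
        exact congrArg (· ≫ Sigma.ι (fun _ : Idx.{u} M N => X) i) (congrArg CommaMorphism.left (lift_snd g x)).symm
    show (lift g (x ≫ comp' f i) : T ⟶ H ⊗ homs f M N).left ≫ hsq.isoPullback.inv ≫ Sigma.desc _ = _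
    rw [e, Category.assoc, Category.assoc, Iso.hom_inv_id_assoc, Sigma.ι_desc]
    rfl
  refine ⟨υ, fun T g₁ g₂ v => ?_, key⟩
  refine RepLocal.hom_ext_opens (fun i : Idx.{u} M N => v.left ⁻¹ᵁ (Sigma.ι (fun _ : Idx.{u} M N => X) i).opensRange)
    (fun z => ?_) fun i => ?_
  · obtain ⟨⟨i, y⟩, hy⟩ := (sigmaMk fun _ : Idx.{u} M N => X).surjective (v.left z)
    rw [sigmaMk_mk] at hy
    exact ⟨i, ⟨y, hy⟩⟩
  · obtain ⟨x, hx⟩ := exists_comp f v i
    simp only [MonObj.comp_mul, comp_lift_assoc, ← hx, key]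
    exact psi_hom eH eG i.down _ _ _ _

theorem whisker_eq_lift {A B : Over S} (z : A ⟶ B) : H ◁ z = lift (fst H A) (snd H A ≫ z) :=
  CartesianMonoidalCategory.hom_ext _ _ (by simp) (by simp)

/-- Over a non-empty base the homomorphism determines the homomorphism of character groups. -/
theorem idx_eq {φ₁ φ₂ : N →+ M} {T : Over S} (t : T ⟶ Over.mk f) (p : T.left)
    (h : (H ◁ t) ≫ psi eH eG φ₁ = (H ◁ t) ≫ psi eH eG φ₂) : φ₁ = φ₂ := by
  obtain ⟨W, hW, hpW, -⟩ := exists_isAffineOpen_mem_and_subset (show p ∈ (⊤ : T.left.Opens) from trivial)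
  let R : Type u := Γ(T.left, W)
  let β : Spec (CommRingCat.of R) ⟶ S := hW.fromSpec ≫ T.hom
  let jR : Spec (CommRingCat.of R) ⟶ X := hW.fromSpec ≫ t.left
  have hjR : jR ≫ f = β := by
    show (hW.fromSpec ≫ t.left) ≫ f = hW.fromSpec ≫ T.hom
    rw [Category.assoc]
    exact congrArg (hW.fromSpec ≫ ·) (Over.w t)
  rw [← SetLike.mem_coe, ← hW.range_fromSpec] at hpW
  obtain ⟨q, -⟩ := hpW
  haveI : Nontrivial R := PrimeSpectrum.nontrivial (R := R) q
  let C1 := MonoidAlgebra R (Multiplicative M)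
  let cU : CoordM.{u} M →+* C1 := univPt R (AddMonoidHom.id M)
  let tR : DiagActionRigid.sp β C1 ⟶ T :=
    Over.homMk (Spec.map (CommRingCat.ofHom (algebraMap R C1)) ≫ hW.fromSpec) (Category.assoc _ _ _)
  have h1 := congrArg (fun m => lift (chi eH jR hjR C1 cU) tR ≫ m) h
  simp only [lift_whiskerLeft_assoc] at h1
  rw [chi_psi eH eG jR hjR φ₁ C1 cU (tR ≫ t) (Category.assoc _ _ _),
    chi_psi eH eG jR hjR φ₂ C1 cU (tR ≫ t) (Category.assoc _ _ _)] at h1
  refine AddMonoidHom.ext fun n => ?_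
  have h2 := congrFun (congrArg DFunLike.coe ((chi_bij eG jR hjR C1).1 h1))
    (MonoidAlgebra.single (Multiplicative.ofAdd n) 1)
  rw [pull_single, pull_single] at h2
  erw [univPt_single, univPt_single] at h2
  exact congrArg Multiplicative.toAdd (MonoidAlgebra.of_injective h2)

variable {υ : H ⊗ homs f M N ⟶ G}
  (key : ∀ {T : Over S} (g : T ⟶ H) (x : T ⟶ Over.mk f) (i : Idx.{u} M N),
    lift g (x ≫ comp' f i) ≫ υ = lift g x ≫ psi eH eG i.down)

include key in
theorem whisker_comp {T : Over S} (x : T ⟶ Over.mk f) (i : Idx.{u} M N) :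
    (H ◁ (x ≫ comp' f i)) ≫ υ = (H ◁ x) ≫ psi eH eG i.down := by
  rw [whisker_eq_lift, whisker_eq_lift, ← Category.assoc (snd H T), key]

include key in
/-- Points of the constant scheme are determined by their families. -/
theorem homs_ext {T : Over S} {v w : T ⟶ homs f M N}
    (h1 : v.left ≫ (TwC.const X (Idx.{u} M N)).hom = w.left ≫ (TwC.const X (Idx.{u} M N)).hom)
    (h2 : (H ◁ v) ≫ υ = (H ◁ w) ≫ υ) : v = w := by
  classical
  let Uv : Idx.{u} M N → T.left.Opens := fun i => v.left ⁻¹ᵁ (Sigma.ι (fun _ : Idx.{u} M N => X) i).opensRange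
  let Uw : Idx.{u} M N → T.left.Opens := fun i => w.left ⁻¹ᵁ (Sigma.ι (fun _ : Idx.{u} M N => X) i).opensRange
  have hcov : ∀ (a : T ⟶ homs f M N) (z : T.left),
      ∃ i, z ∈ a.left ⁻¹ᵁ (Sigma.ι (fun _ : Idx.{u} M N => X) i).opensRange := fun a z => by
    obtain ⟨⟨i, y⟩, hy⟩ := (sigmaMk fun _ : Idx.{u} M N => X).surjective (a.left z)
    rw [sigmaMk_mk] at hy
    exact ⟨i, ⟨y, hy⟩⟩
  choose iv hiv using hcov v
  choose iw hiw using hcov w
  refine RepLocal.hom_ext_opens (fun z : T.left => Uv (iv z) ⊓ Uw (iw z)) (fun z => ⟨z, hiv z, hiw z⟩) fun z => ?_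
  obtain ⟨xv, hxv⟩ := exists_comp f v (iv z)
  obtain ⟨xw, hxw⟩ := exists_comp f w (iw z)
  let U := Uv (iv z) ⊓ Uw (iw z)
  let yv : opOver T U ⟶ Over.mk f := opMap T inf_le_left ≫ xv
  let yw : opOver T U ⟶ Over.mk f := opMap T inf_le_right ≫ xw
  have ev : yv ≫ comp' f (iv z) = opIncl T U ≫ v := by
    show (_ ≫ _) ≫ _ = _
    rw [Category.assoc, hxv, ← Category.assoc, opMap_incl]
  have ew : yw ≫ comp' f (iw z) = opIncl T U ≫ w := by
    show (_ ≫ _) ≫ _ = _
    rw [Category.assoc, hxw, ← Category.assoc, opMap_incl]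
  have hl : ∀ (y : opOver T U ⟶ Over.mk f) (i : Idx.{u} M N) (a : T ⟶ homs f M N),
      y ≫ comp' f i = opIncl T U ≫ a → y.left = U.ι ≫ a.left ≫ (TwC.const X (Idx.{u} M N)).hom := fun y i a e => by
    refine Eq.trans ?_ ((congrArg (fun m : opOver T U ⟶ homs f M N => m.left ≫ (TwC.const X (Idx.{u} M N)).hom) e).trans
      (Category.assoc _ _ _))
    show y.left = (y.left ≫ Sigma.ι (fun _ : Idx.{u} M N => X) i) ≫ Sigma.desc _
    rw [Category.assoc, Sigma.ι_desc]
    exact (Category.comp_id _).symm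
  have hy : yv = yw := Over.OverMorphism.ext (by rw [hl yv _ v ev, hl yw _ w ew, h1])
  have hf : (H ◁ yv) ≫ psi eH eG (iv z).down = (H ◁ yv) ≫ psi eH eG (iw z).down := by
    conv_rhs => rw [hy]
    rw [← whisker_comp eH eG key, ← whisker_comp eH eG key, ev, ew, whiskerLeft_comp, whiskerLeft_comp,
      Category.assoc, Category.assoc, h2]
  have hi : iv z = iw z := ULift.ext _ _ (idx_eq eH eG yv ⟨z, hiv z, hiw z⟩ hf)
  show opIncl T U ≫ v = opIncl T U ≫ w
  rw [← ev, ← ew, hy, hi]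

/-- Near each point a family of homomorphisms is given by one homomorphism of character groups. -/
theorem exists_local [AddGroup.FG N] {T : Over S} (t : T ⟶ Over.mk f) (fam : H ⊗ T ⟶ G)
    (hfam : AutFam.IsHomFamily H G fam) (p : T.left) :
    ∃ (O : T.left.Opens) (φ : N →+ M), p ∈ O ∧
      (H ◁ opIncl T O) ≫ fam = (H ◁ (opIncl T O ≫ t)) ≫ psi eH eG φ := by
  classical
  obtain ⟨W, hW, hpW, -⟩ := exists_isAffineOpen_mem_and_subset (show p ∈ (⊤ : T.left.Opens) from trivial)
  let R : Type u := Γ(T.left, W)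
  let β : Spec (CommRingCat.of R) ⟶ S := hW.fromSpec ≫ T.hom
  let jR : Spec (CommRingCat.of R) ⟶ X := hW.fromSpec ≫ t.left
  have hjR : jR ≫ f = β := by
    show (hW.fromSpec ≫ t.left) ≫ f = hW.fromSpec ≫ T.hom
    rw [Category.assoc]
    exact congrArg (hW.fromSpec ≫ ·) (Over.w t)
  let tR : ∀ (B : Type u) [CommRing B] [Algebra R B], DiagActionRigid.sp β B ⟶ T := fun B _ _ =>
    Over.homMk (Spec.map (CommRingCat.ofHom (algebraMap R B)) ≫ hW.fromSpec) (Category.assoc _ _ _)
  have htR : ∀ {B B' : Type u} [CommRing B] [Algebra R B] [CommRing B'] [Algebra R B'] (g : B →ₐ[R] B'),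
      spm β g ≫ tR B = tR B' := by
    intro B B' _ _ _ _ g
    refine Over.OverMorphism.ext ?_
    show Spec.map _ ≫ Spec.map _ ≫ _ = Spec.map _ ≫ _
    rw [← Spec.map_comp_assoc]
    congr 2
    exact CommRingCat.hom_ext g.comp_algebraMap
  let C1 := MonoidAlgebra R (Multiplicative M)
  let C2 := MonoidAlgebra R (Multiplicative M × Multiplicative M)
  let cU : CoordM.{u} M →+* C1 := univPt R (AddMonoidHom.id M)
  obtain ⟨cH, hcH⟩ := (chi_bij eG jR hjR C1).2 (lift (chi eH jR hjR C1 cU) (tR C1) ≫ fam)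
  let v : Multiplicative N →* C1 := (cH : CoordM.{u} N →* C1).comp (MonoidAlgebra.of (ULift.{u} ℤ) (Multiplicative N))
  have hev : ∀ {B : Type u} [CommRing B] [Algebra R B] (g : C1 →ₐ[R] B),
      chi eG jR hjR B (g.toRingHom.comp cH) = lift (chi eH jR hjR B (g.toRingHom.comp cU)) (tR B) ≫ fam := by
    intro B _ _ g
    rw [← chi_nat eG jR hjR g cH, hcH, comp_lift_assoc, chi_nat, htR]
  let σ : (Multiplicative M →* Multiplicative M × Multiplicative M) → (C1 →ₐ[R] C2) := fun τ =>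
    MonoidAlgebra.mapDomainAlgHom R R τ
  have hσ : ∀ τ m, ((σ τ).toRingHom.comp cU) (MonoidAlgebra.single m 1) = MonoidAlgebra.single (τ m) 1 := by
    intro τ m
    show σ τ (cU (MonoidAlgebra.single m 1)) = _
    rw [univPt_single]
    exact MonoidAlgebra.mapDomain_single
  let τ₁ := MonoidHom.inl (Multiplicative M) (Multiplicative M)
  let τ₂ := MonoidHom.inr (Multiplicative M) (Multiplicative M)
  let τ₃ := (MonoidHom.id (Multiplicative M)).prod (MonoidHom.id (Multiplicative M))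
  have hv : ∀ m, MonoidAlgebra.mapDomainRingHom R τ₁ (v m) * MonoidAlgebra.mapDomainRingHom R τ₂ (v m) =
      MonoidAlgebra.mapDomainRingHom R τ₃ (v m) := by
    let d : Multiplicative N →* C2 := ((σ τ₁ : C1 →* C2).comp v) * ((σ τ₂ : C1 →* C2).comp v)
    have hd : ∀ m, HomMonoLocus.charOf (R := R) d (MonoidAlgebra.single m 1) =
        ((σ τ₁).toRingHom.comp cH) (MonoidAlgebra.single m 1) *
          ((σ τ₂).toRingHom.comp cH) (MonoidAlgebra.single m 1) := fun m => HomMonoLocus.charOf_single d m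
    have h3 : chi eG jR hjR C2 ((σ τ₁).toRingHom.comp cH) * chi eG jR hjR C2 ((σ τ₂).toRingHom.comp cH) =
        chi eG jR hjR C2 ((σ τ₃).toRingHom.comp cH) := by
      rw [hev, hev, hev, ← hfam, chi_mul eH jR hjR _ _ _ fun m => ?_]
      rw [hσ, hσ, hσ, MonoidAlgebra.single_mul_single, _root_.mul_one]
      congr 1
      simp [τ₁, τ₂, τ₃]
    rw [chi_mul eG jR hjR _ _ _ hd] at h3
    intro m
    have h := congrFun (congrArg DFunLike.coe ((chi_bij eG jR hjR C2).1 h3)) (MonoidAlgebra.single m 1)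
    rw [hd] at h
    exact h
  rw [← SetLike.mem_coe, ← hW.range_fromSpec] at hpW
  obtain ⟨q, hq⟩ := hpW
  haveI : q.asIdeal.IsPrime := q.isPrime
  obtain ⟨d, hd, φ, hφ⟩ := HomScheme.exists_monomial_near v hv q.asIdeal
  let j : Spec (CommRingCat.of (Localization.Away d)) ⟶ T.left :=
    Spec.map (CommRingCat.ofHom (algebraMap R (Localization.Away d))) ≫ hW.fromSpec
  refine ⟨j.opensRange, φ, ?_, ?_⟩
  · have hqd : q ∈ Set.range (PrimeSpectrum.comap (algebraMap R (Localization.Away d))) := by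
      rw [PrimeSpectrum.localization_away_comap_range (Localization.Away d) d]
      exact hd
    obtain ⟨q', hq'⟩ := hqd
    exact ⟨q', by rw [Scheme.Hom.comp_apply, ← hq, ← hq']; rfl⟩
  let O := j.opensRange
  let Z := H ⊗ opOver T O
  refine Over.OverMorphism.ext (Scheme.Cover.hom_ext Z.left.affineCover _ _ fun i => ?_)
  obtain ⟨B, hB⟩ : ∃ B : CommRingCat.{u}, Z.left.affineCover.X i = Spec B := ⟨_, rfl⟩
  rw [← cancel_epi (eqToHom hB.symm), ← Category.assoc (eqToHom hB.symm), ← Category.assoc (eqToHom hB.symm)]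
  generalize eqToHom hB.symm ≫ Z.left.affineCover.f i = z
  have hr : Set.range (z ≫ (snd H (opOver T O) ≫ opIncl T O).left) ⊆ Set.range j := by
    rintro _ ⟨y, rfl⟩
    exact ((z ≫ (snd H (opOver T O)).left) y).2
  obtain ⟨k, hk⟩ : ∃ k, Spec.map k = IsOpenImmersion.lift j _ hr := ⟨_, Spec.map_preimage _⟩
  letI : Algebra (Localization.Away d) B := k.hom.toAlgebra
  letI : Algebra R B := (k.hom.comp (algebraMap R (Localization.Away d))).toAlgebra
  let q' : DiagActionRigid.sp β (B : Type u) ⟶ Z := Over.homMk z (by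
    show z ≫ Z.hom = Spec.map (CommRingCat.ofHom (k.hom.comp (algebraMap R (Localization.Away d)))) ≫ β
    rw [← Over.w (snd H (opOver T O) ≫ opIncl T O), ← Category.assoc z, ← IsOpenImmersion.lift_fac j _ hr, ← hk,
      CommRingCat.ofHom_comp, Spec.map_comp]
    simp only [j, β, Category.assoc]
    rfl)
  obtain ⟨c, hc⟩ := (chi_bij eH jR hjR B).2 (q' ≫ fst H (opOver T O))
  have htB : q' ≫ snd H (opOver T O) ≫ opIncl T O = tR B := by
    refine Over.OverMorphism.ext ?_
    show z ≫ (snd H (opOver T O) ≫ opIncl T O).left = Spec.map _ ≫ hW.fromSpec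
    rw [← IsOpenImmersion.lift_fac j _ hr, ← hk, ← Category.assoc, ← Spec.map_comp]
    rfl
  have hq2 : ∀ {Y : Over S} (y : opOver T O ⟶ Y),
      q' ≫ (H ◁ y) = lift (chi eH jR hjR B c) (q' ≫ snd H (opOver T O) ≫ y) := fun y => by
    rw [hc]
    exact CartesianMonoidalCategory.hom_ext _ _ (by simp) (by simp)
  refine congrArg (fun m : DiagActionRigid.sp β (B : Type u) ⟶ G => m.left)
    (show q' ≫ ((H ◁ opIncl T O) ≫ fam) = q' ≫ ((H ◁ (opIncl T O ≫ t)) ≫ psi eH eG φ) from ?_)
  rw [← Category.assoc, ← Category.assoc, hq2, hq2, htB, ← Category.assoc (snd H _), ← Category.assoc q', htB,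
    chi_psi eH eG jR hjR φ B c (tR B ≫ t) (Category.assoc _ _ _)]
  let ev₀ : C1 →ₐ[R] B := HomKernelIdeal.evalChar (R := R) c
  have h1 := hev ev₀
  rw [show ev₀.toRingHom.comp cU = c from HomKernelIdeal.evalChar_univ c] at h1
  rw [← h1]
  congr 1
  refine coord_ext fun n => ?_
  rw [pull_single]
  show ev₀ (v n) = _
  have hu : IsUnit (algebraMap R B d) := (IsLocalization.Away.algebraMap_isUnit (S := Localization.Away d) d).map k.hom
  have h2 : MonoidAlgebra.lift B B (Multiplicative M)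
      ((c : CoordM.{u} M →* B).comp (MonoidAlgebra.of (ULift.{u} ℤ) (Multiplicative M)))
      (MonoidAlgebra.mapRingHom (Multiplicative M) (algebraMap R B) (v n)) = ev₀ (v n) := by
    induction v n using MonoidAlgebra.induction_linear with
    | zero => simp
    | add x y hx hy => rw [map_add, map_add, map_add, hx, hy]
    | single x r =>
      rw [MonoidAlgebra.mapRingHom_single, MonoidAlgebra.lift_single, smul_eq_mul,
        show MonoidAlgebra.single x r = r • MonoidAlgebra.single x (1 : R) by simp, map_smul,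
        HomKernelIdeal.evalChar_single, Algebra.smul_def]
      rfl
  rw [← h2, hφ B hu n, MonoidAlgebra.lift_single, one_smul]
  rfl

include eH eG in
/-- The constant scheme classifies homomorphisms between the split groups. -/
theorem exists_univOn [AddGroup.FG N] : ∃ υ : H ⊗ homs f M N ⟶ G, AutFam.IsHomFamily H G υ ∧
    (∀ i : Idx.{u} M N, (H ◁ comp' f i) ≫ υ = psi eH eG i.down) ∧
    ∀ (T : Over S) (x : T.left ⟶ X), x ≫ f = T.hom → ∀ φ : H ⊗ T ⟶ G, AutFam.IsHomFamily H G φ →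
      ∃! v : T ⟶ homs f M N, v.left ≫ (TwC.const X (Idx.{u} M N)).hom = x ∧ (H ◁ v) ≫ υ = φ := by
  obtain ⟨υ, hυ, key⟩ := exists_univ_family eH eG
  refine ⟨υ, hυ, fun i => ?_, fun T x hx fam hfam => ?_⟩
  · rw [← Category.id_comp (comp' f i), whisker_comp eH eG key, whiskerLeft_id, Category.id_comp]
  let t : T ⟶ Over.mk f := Over.homMk x hx
  choose O φ hmem heq using exists_local eH eG t fam hfam
  let vp : ∀ p : T.left, opOver T (O p) ⟶ homs f M N := fun p => (opIncl T (O p) ≫ t) ≫ comp' f ⟨φ p⟩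
  have hvp : ∀ p, (H ◁ vp p) ≫ υ = (H ◁ opIncl T (O p)) ≫ fam := fun p => by
    rw [whisker_comp eH eG key, heq p]
  have hvx : ∀ p, (vp p).left ≫ (TwC.const X (Idx.{u} M N)).hom = (O p).ι ≫ x := fun p => by
    show (((O p).ι ≫ x) ≫ Sigma.ι (fun _ : Idx.{u} M N => X) _) ≫ Sigma.desc _ = _
    rw [Category.assoc, Sigma.ι_desc, Category.comp_id]
  obtain ⟨w, hw⟩ := RepLocal.exists_glue_hom O (fun p => ⟨p, hmem p⟩) vp fun p p' => by
    refine homs_ext eH eG key ?_ ?_
    · simp only [Over.comp_left, Category.assoc, hvx, Over.homMk_left, Scheme.homOfLE_ι_assoc]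
    · rw [whiskerLeft_comp H _ (vp p), whiskerLeft_comp H _ (vp p'), Category.assoc, Category.assoc, hvp, hvp,
        ← whiskerLeft_comp_assoc,
        ← whiskerLeft_comp_assoc, opMap_incl, opMap_incl]
  have hwx : w.left ≫ (TwC.const X (Idx.{u} M N)).hom = x := by
    refine Scheme.Cover.hom_ext (T.left.openCoverOfIsOpenCover O (by
      rw [TopologicalSpace.IsOpenCover, eq_top_iff]
      exact fun p _ => TopologicalSpace.Opens.mem_iSup.mpr ⟨p, hmem p⟩)) _ _ fun p => ?_
    show (O p).ι ≫ _ ≫ _ = (O p).ι ≫ x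
    rw [← hvx p, ← Category.assoc]
    exact congrArg (fun m : opOver T (O p) ⟶ homs f M N => m.left ≫ _) (hw p)
  have hwf : (H ◁ w) ≫ υ = fam := by
    refine RepLocal.hom_ext_opens (fun p => (snd H T).left ⁻¹ᵁ O p) (fun z => ⟨(snd H T).left z, hmem _⟩) fun p => ?_
    let U := (snd H T).left ⁻¹ᵁ O p
    have hr : Set.range (U.ι ≫ (snd H T).left) ⊆ Set.range (O p).ι := by
      rintro _ ⟨z, rfl⟩
      rw [Scheme.Opens.range_ι]
      exact z.2
    let r : opOver (H ⊗ T) U ⟶ opOver T (O p) := Over.homMk (IsOpenImmersion.lift (O p).ι _ hr) (by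
      show _ ≫ (O p).ι ≫ T.hom = U.ι ≫ (H ⊗ T).hom
      rw [IsOpenImmersion.lift_fac_assoc, Category.assoc, Over.w])
    have hr' : r ≫ opIncl T (O p) = opIncl (H ⊗ T) U ≫ snd H T :=
      Over.OverMorphism.ext (IsOpenImmersion.lift_fac _ _ _)
    have e : opIncl (H ⊗ T) U = lift (opIncl (H ⊗ T) U ≫ fst H T) r ≫ (H ◁ opIncl T (O p)) := by
      rw [lift_whiskerLeft, hr', ← comp_lift, lift_fst_snd, Category.comp_id]
    rw [e, Category.assoc, Category.assoc, ← whiskerLeft_comp_assoc, hw p, hvp p]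
  exact ⟨w, ⟨hwx, hwf⟩, fun w' hw' => homs_ext eH eG key (hw'.1.trans hwx.symm) (hw'.2.trans hwf.symm)⟩

end Groth.Agent.Dual
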