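import Groth.Agent.Dual.Etale
import Groth.Agent.S5427
import Groth.Prelude.Def_GmPts
import Groth.Agent.DescLib.DescFinite
import Groth.Agent.WittEndoLib.Basic

/-!
# The dual of a constant group is diagonalisable
-/

set_option autoImplicit false
set_option linter.style.haveILetI false
set_option linter.unusedSectionVars false
set_option backward.isDefEq.respectTransparency false
set_option backward.isDefEq.respectTransparency.types false

universe u

open CategoryTheory CategoryTheory.Limits MonoidalCategory CartesianMonoidalCategory MonObj AlgebraicGeometry Opposite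

namespace Groth.Agent.Dual.TwConst

open DSPtsLib (CoordM)
open RepLocal (opOver opIncl opMap opMap_incl)

variable {S X : Scheme.{u}} (f : X ⟶ S) {A : Type} [AddCommGroup A]

/-- The diagonalisable group over a member, over the base. -/
noncomputable abbrev DSb (A : Type) [AddCommGroup A] : Over S := Over.mk ((Red.DS X A).hom ≫ f)

variable {f}

/-- The ring map of a point of a diagonalisable group. -/
noncomputable def rh {T : Over S} (v : T ⟶ DSb f A) : CoordM.{u} A →+* Γ(T.left, ⊤) :=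
  ((Scheme.ΓSpecIso (CommRingCat.of (CoordM.{u} A))).inv ≫
    (v.left ≫ pullback.fst (Red.diag (ULift.{u} ℤ) A).hom (IsTerminal.from specULiftZIsTerminal X)).appTop).hom

theorem rh_comp {T T' : Over S} (g : T' ⟶ T) (v : T ⟶ DSb f A) :
    rh (g ≫ v) = g.left.appTop.hom.comp (rh v) := by
  unfold rh
  rw [Over.comp_left, Category.assoc, Scheme.Hom.comp_appTop, ← Category.assoc]
  rfl

/-- A point is a morphism to the member together with a ring map. -/
theorem existsUnique_pt {T : Over S} (x : T.left ⟶ X) (hx : x ≫ f = T.hom) (c : CoordM.{u} A →+* Γ(T.left, ⊤)) :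
    ∃! v : T ⟶ DSb f A, v.left ≫ (Red.DS X A).hom = x ∧ rh v = c := by
  let sp : T.left ⟶ Spec (CommRingCat.of (CoordM.{u} A)) :=
    ΓSpec.adjunction.homEquiv T.left (op (CommRingCat.of (CoordM.{u} A))) (CommRingCat.ofHom c).op
  let l : T.left ⟶ (Red.DS X A).left := pullback.lift sp x (specULiftZIsTerminal.hom_ext _ _)
  have hl : l ≫ (Red.DS X A).hom = x := pullback.lift_snd _ _ _
  let v : T ⟶ DSb f A := Over.homMk l (by
    show l ≫ (Red.DS X A).hom ≫ f = T.hom
    rw [← Category.assoc, hl, hx])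
  refine ⟨v, ⟨hl, ?_⟩, fun v' hv' => ?_⟩
  · unfold rh
    show ((Scheme.ΓSpecIso _).inv ≫ (l ≫ pullback.fst _ _).appTop).hom = _
    rw [show l ≫ pullback.fst _ _ = sp from pullback.lift_fst _ _ _,
      show (Scheme.ΓSpecIso _).inv ≫ sp.appTop = _ from ΓSpecIso_inv_ΓSpec_adjunction_homEquiv _]
    rfl
  · obtain ⟨h1, h2⟩ := hv'
    refine Over.OverMorphism.ext (pullback.hom_ext ?_ (h1.trans hl.symm))
    refine Eq.trans ?_ (pullback.lift_fst _ _ _).symm
    apply ((ΓSpec.adjunction.homEquiv T.left (op (CommRingCat.of (CoordM.{u} A))))).symm.injective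
    rw [Equiv.symm_apply_apply, Adjunction.homEquiv_counit, ΓSpec.adjunction_counit_app]
    show ((Scheme.ΓSpecIso _).inv ≫ _).op = (CommRingCat.ofHom c).op
    rw [← h2]
    rfl

/-- The monomials as units. -/
noncomputable def gu (A : Type) [AddCommGroup A] : Multiplicative A →* (CoordM.{u} A)ˣ :=
  (MonoidAlgebra.of (ULift.{u} ℤ) (Multiplicative A)).toHomUnits

/-- The character of a point. -/
noncomputable def chHom {T : Over S} (v : T ⟶ DSb f A) : Multiplicative A →* (T ⟶ Red.Gm S) :=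
  (GmPts.equiv T).symm.toMonoidHom.comp ((Units.map (rh v).toMonoidHom).comp (gu A))

theorem gmFn_chHom {T : Over S} (v : T ⟶ DSb f A) (a : Multiplicative A) :
    Red.gmFn (chHom v a) = rh v (MonoidAlgebra.single a 1) := GmPts.gmFn_ptOfUnit _

theorem chHom_comp {T T' : Over S} (g : T' ⟶ T) (v : T ⟶ DSb f A) (a : Multiplicative A) :
    chHom (g ≫ v) a = g ≫ chHom v a := by
  refine GmPts.gmFn_injective ?_
  show Red.gmFn _ = Red.gmFn _
  rw [gmFn_chHom, GmPts.gmFn_comp, gmFn_chHom, rh_comp]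
  rfl

/-- Points are families of characters. -/
theorem existsUnique_char {T : Over S} (x : T.left ⟶ X) (hx : x ≫ f = T.hom)
    (χ : Multiplicative A →* (T ⟶ Red.Gm S)) :
    ∃! v : T ⟶ DSb f A, v.left ≫ (Red.DS X A).hom = x ∧ chHom v = χ := by
  let d : Multiplicative A →* Γ(T.left, ⊤) := (Units.coeHom _).comp ((GmPts.equiv T).toMonoidHom.comp χ)
  let c : CoordM.{u} A →+* Γ(T.left, ⊤) := MonoidAlgebra.liftNCRingHom
    ((Int.castRingHom _).comp (ULift.ringEquiv : ULift.{u} ℤ ≃+* ℤ).toRingHom) d (fun _ _ => Commute.all _ _)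
  have hc : ∀ a, c (MonoidAlgebra.single a 1) = Red.gmFn (χ a) := fun a => by
    refine (MonoidAlgebra.liftNCRingHom_single _ d _ a 1).trans ?_
    rw [map_one, _root_.one_mul]
    rfl
  obtain ⟨v, ⟨hv1, hv2⟩, hvu⟩ := existsUnique_pt x hx c
  refine ⟨v, ⟨hv1, MonoidHom.ext fun a => GmPts.gmFn_injective ?_⟩, fun v' hv' => hvu v' ⟨hv'.1, ?_⟩⟩
  · show Red.gmFn _ = Red.gmFn _
    rw [gmFn_chHom, hv2, hc]
  · refine MonoidAlgebra.ringHom_ext (fun r => ?_) fun a => ?_
    · exact RingHom.congr_fun (DSPtsLib.ulift_ringHom_ext ((rh v').comp MonoidAlgebra.singleOneRingHom)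
        (c.comp MonoidAlgebra.singleOneRingHom)) r
    · rw [← gmFn_chHom, hv'.2, hc]

/-- The characters are multiplicative in the point. -/
theorem chHom_mul {P : Over X} (y z : P ⟶ Red.DS X A) (a : Multiplicative A) :
    chHom ((Over.map f).map (y * z) : (Over.map f).obj P ⟶ DSb f A) a =
      chHom ((Over.map f).map y : (Over.map f).obj P ⟶ DSb f A) a *
        chHom ((Over.map f).map z : (Over.map f).obj P ⟶ DSb f A) a := by
  let m : A := a.toAdd
  have h : ∀ w : P ⟶ Red.DS X A,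
      Red.gmFn (w ≫ Red.chi X m) =
        Red.gmFn (chHom ((Over.map f).map w : (Over.map f).obj P ⟶ DSb f A) a) := by
    intro w
    rw [gmFn_chHom]
    let φ := CommRingCat.ofHom (R := CoordM.{u} ℤ) (S := CoordM.{u} A)
      (MonoidAlgebra.mapDomainAlgHom (ULift.{u} ℤ) (ULift.{u} ℤ)
        (AddMonoidHom.toMultiplicative (zmultiplesHom A m : ℤ →+ A))).toRingHom
    have e : (Red.chi X m).left ≫ pullback.fst _ _ = pullback.fst _ _ ≫ Spec.map φ := pullback.lift_fst _ _ _
    have e2 : φ (MonoidAlgebra.single (Multiplicative.ofAdd (1 : ℤ)) 1) = MonoidAlgebra.single a 1 := by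
      refine MonoidAlgebra.mapDomain_single.trans ?_
      simp [m]
    have e3 : (Spec.map φ).appTop
        ((Scheme.ΓSpecIso _).inv (MonoidAlgebra.single (Multiplicative.ofAdd (1 : ℤ)) (1 : ULift.{u} ℤ))) =
        (Scheme.ΓSpecIso (CommRingCat.of (CoordM.{u} A))).inv (MonoidAlgebra.single a 1) := by
      rw [← e2]
      exact GmPts.specMap_appTop_coordIso_inv φ _
    show ((w.left ≫ (Red.chi X m).left) ≫ pullback.fst _ _).appTop Red.gmCoord =
      ((w.left ≫ pullback.fst _ _).appTop) ((Scheme.ΓSpecIso (CommRingCat.of (CoordM.{u} A))).inv _)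
    rw [Category.assoc, e, ← Category.assoc, GmPts.appTop_comp_apply]
    exact congrArg _ e3
  haveI : IsMonHom (Red.chi X m) := S5427.isMonHom_DSmap X _
  refine GmPts.gmFn_injective ?_
  show Red.gmFn _ = Red.gmFn _
  rw [GmPts.gmFn_mul, ← h, ← h, ← h, MonObj.mul_comp]
  exact GmPts.gmFn_mul _ _

/-! ### The constant group -/

section Const

variable {R : Over S} [GrpObj R] {M : Type} (e : Red.bc f R ≅ TwC.const X M)

/-- The section of index `m`. -/
noncomputable def pm (m : M) : Over.mk f ⟶ R :=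
  (Over.homMk (𝟙 X) (by simp) : Over.mk f ⟶ (Over.map f).obj (𝟙_ (Over X))) ≫
    DSPtsLib.theta f (TwC.pt X M m ≫ e.inv)

theorem pm_mul [Group M] (he : TwC.IsConstGrp M (Red.bc f R) e) (m n : M) : pm e (m * n) = pm e m * pm e n := by
  rw [pm, ← he, DSPtsLib.theta_mul, MonObj.comp_mul]
  rfl

theorem pm_injective [hX : Nonempty X] : Function.Injective (pm e) := by
  intro m n h
  have h1 : TwC.pt X M m ≫ e.inv = TwC.pt X M n ≫ e.inv := (DSPtsLib.theta_bijective f).injective
    (Over.OverMorphism.ext (by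
      have := congrArg CommaMorphism.left h
      simpa [pm] using this))
  rw [cancel_mono] at h1
  obtain ⟨x⟩ := hX
  have h2 : Sigma.ι (fun _ : M => X) m x = Sigma.ι (fun _ : M => X) n x := by
    rw [show Sigma.ι (fun _ : M => X) m = (TwC.pt X M m).left from rfl, h1]
    rfl
  exact congrArg Sigma.fst ((sigmaι_eq_iff _ _ _ _ _).mp h2)

/-- The inclusion of index `m`. -/
noncomputable def incl {Q : Over S} (t : Q ⟶ Over.mk f) (m : M) : Q ⟶ R ⊗ Q := lift (t ≫ pm e m) (𝟙 Q)

theorem comp_incl {Q Q' : Over S} (g : Q' ⟶ Q) (t : Q ⟶ Over.mk f) (m : M) :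
    g ≫ incl e t m = incl e (g ≫ t) m ≫ (R ◁ g) := by
  rw [incl, incl, comp_lift, lift_whiskerLeft, Category.assoc, Category.id_comp, Category.comp_id]

theorem exists_decomp {Q : Over S} (t : Q ⟶ Over.mk f) :
    ∃ j : (∐ fun _ : ULift.{u} M => Q.left) ≅ (R ⊗ Q).left,
      ∀ m : M, Sigma.ι (fun _ : ULift.{u} M => Q.left) ⟨m⟩ ≫ j.hom = (incl e t m).left := by
  let α : TwC.const X (ULift.{u} M) ≅ TwC.const X M :=
    { hom := TwC.constMap X ULift.down
      inv := TwC.constMap X ULift.up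
      hom_inv_id := Over.OverMorphism.ext (Sigma.hom_ext _ _ fun i => by simp [TwC.constMap])
      inv_hom_id := Over.OverMorphism.ext (Sigma.hom_ext _ _ fun i => by simp [TwC.constMap]) }
  let e' : Red.bc f R ≅ TwC.const X (ULift.{u} M) := e ≪≫ α.symm
  have h1 : IsPullback (e'.inv.left ≫ pullback.fst R.hom f) (TwC.const X (ULift.{u} M)).hom R.hom f := by
    refine IsPullback.of_iso_pullback ⟨?_⟩ ((Over.forget X).mapIso e'.symm) rfl (Over.w e'.inv)
    rw [Category.assoc, pullback.condition, ← Category.assoc]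
    exact congrArg (· ≫ f) (Over.w e'.inv)
  have h2 := (TwDescend.isPullback_sigmaMap_desc t.left (ULift.{u} M)).paste_horiz h1
  rw [show t.left ≫ f = Q.hom from Over.w t] at h2
  refine ⟨h2.isoPullback, fun m => pullback.hom_ext ?_ ?_⟩
  · rw [Category.assoc]
    erw [h2.isoPullback_hom_fst, Sigma.ι_map_assoc]
    show _ = (incl e t m).left ≫ (fst R Q).left
    rw [← Over.comp_left, incl, lift_fst, Over.comp_left]
    congr 1
    show Sigma.ι (fun _ : ULift.{u} M => X) ⟨m⟩ ≫ (α.hom ≫ e.inv).left ≫ pullback.fst R.hom f = _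
    show Sigma.ι (fun _ : ULift.{u} M => X) ⟨m⟩ ≫ (α.hom.left ≫ e.inv.left) ≫ pullback.fst R.hom f =
      𝟙 X ≫ (TwC.pt X M m ≫ e.inv).left ≫ pullback.fst _ _
    simp [α, TwC.constMap, TwC.pt]
  · rw [Category.assoc]
    erw [h2.isoPullback_hom_snd, Sigma.ι_desc]
    show _ = (incl e t m).left ≫ (snd R Q).left
    rw [← Over.comp_left, incl, lift_snd]
    rfl

theorem fam_ext {Q G : Over S} (t : Q ⟶ Over.mk f) {φ ψ : R ⊗ Q ⟶ G}
    (h : ∀ m, incl e t m ≫ φ = incl e t m ≫ ψ) : φ = ψ := by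
  obtain ⟨j, hj⟩ := exists_decomp e t
  refine Over.OverMorphism.ext ((cancel_epi j.hom).mp (Sigma.hom_ext _ _ fun i => ?_))
  rw [← Category.assoc, ← Category.assoc, show Sigma.ι _ i ≫ j.hom = _ from hj i.down]
  exact congrArg CommaMorphism.left (h i.down)

theorem exists_fam {Q G : Over S} (t : Q ⟶ Over.mk f) (χ : M → (Q ⟶ G)) :
    ∃ φ : R ⊗ Q ⟶ G, ∀ m, incl e t m ≫ φ = χ m := by
  obtain ⟨j, hj⟩ := exists_decomp e t
  refine ⟨Over.homMk (j.inv ≫ Sigma.desc fun i : ULift.{u} M => (χ i.down).left) ?_, fun m => ?_⟩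
  · rw [← cancel_epi j.hom]
    refine Sigma.hom_ext _ _ fun i => ?_
    rw [Category.assoc, Iso.hom_inv_id_assoc, Sigma.ι_desc_assoc, ← Category.assoc,
      show Sigma.ι _ i ≫ j.hom = _ from hj i.down, Over.w]
    exact (Over.w _).symm
  · refine Over.OverMorphism.ext ?_
    rw [Over.comp_left, ← hj m, Category.assoc]
    show _ ≫ j.hom ≫ j.inv ≫ _ = _
    rw [Iso.hom_inv_id_assoc, Sigma.ι_desc]

/-- A point of the constant group is locally of constant index. -/
theorem exists_index {P Q : Over S} (t : Q ⟶ Over.mk f) (g : P ⟶ R) (w : P ⟶ Q) (z : P.left) :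
    ∃ (m : M) (O : P.left.Opens), z ∈ O ∧ opIncl P O ≫ g = opIncl P O ≫ w ≫ t ≫ pm e m := by
  obtain ⟨j, hj⟩ := exists_decomp e t
  obtain ⟨⟨i, y⟩, hy⟩ := (sigmaMk fun _ : ULift.{u} M => Q.left).surjective (j.inv ((lift g w).left z))
  rw [sigmaMk_mk] at hy
  let ι' := Sigma.ι (fun _ : ULift.{u} M => Q.left) i ≫ j.hom
  let O : P.left.Opens := (lift g w).left ⁻¹ᵁ ι'.opensRange
  refine ⟨i.down, O, ⟨y, ?_⟩, ?_⟩
  · show ι' y = _
    rw [Scheme.Hom.comp_apply, hy, ← Scheme.Hom.comp_apply, Iso.inv_hom_id]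
    rfl
  have hr : Set.range (O.ι ≫ (lift g w).left) ⊆ Set.range ι' := by
    rintro _ ⟨z', rfl⟩
    exact z'.2
  let x := IsOpenImmersion.lift ι' _ hr
  have hι : ι' = (incl e t i.down).left := hj i.down
  have hx : x ≫ (incl e t i.down).left = O.ι ≫ (lift g w).left := hι ▸ IsOpenImmersion.lift_fac ι' _ hr
  let xO : opOver P O ⟶ Q := Over.homMk x (by
    show x ≫ Q.hom = O.ι ≫ P.hom
    rw [← Over.w (incl e t i.down), ← Category.assoc, hx, Category.assoc, Over.w])
  have h : xO ≫ incl e t i.down = opIncl P O ≫ lift g w := Over.OverMorphism.ext hx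
  have h1 := congrArg (· ≫ fst R Q) h
  have h2 := congrArg (· ≫ snd R Q) h
  simp only [incl, Category.assoc, lift_fst, lift_snd, Category.comp_id] at h1 h2
  rw [← h1, h2, Category.assoc]

variable [Group M] (he : TwC.IsConstGrp M (Red.bc f R) e)

include he in
theorem isHomFamily_of_mul {Q G : Over S} [GrpObj G] (t : Q ⟶ Over.mk f) (φ : R ⊗ Q ⟶ G)
    (h : ∀ m n, incl e t (m * n) ≫ φ = (incl e t m ≫ φ) * (incl e t n ≫ φ)) : AutFam.IsHomFamily R G φ := by
  intro P g₁ g₂ w
  choose m O hz hm using exists_index e t g₁ w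
  choose n O' hz' hn using exists_index e t g₂ w
  refine RepLocal.hom_ext_opens (fun z : P.left => O z ⊓ O' z) (fun z => ⟨z, hz z, hz' z⟩) fun z => ?_
  let o := opIncl P (O z ⊓ O' z)
  have h1 : o ≫ g₁ = o ≫ w ≫ t ≫ pm e (m z) := by
    have := congrArg (opMap P (inf_le_left : O z ⊓ O' z ≤ O z) ≫ ·) (hm z)
    simpa only [← Category.assoc, opMap_incl] using this
  have h2 : o ≫ g₂ = o ≫ w ≫ t ≫ pm e (n z) := by
    have := congrArg (opMap P (inf_le_right : O z ⊓ O' z ≤ O' z) ≫ ·) (hn z)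
    simpa only [← Category.assoc, opMap_incl] using this
  have h3 : o ≫ (g₁ * g₂) = o ≫ w ≫ t ≫ pm e (m z * n z) := by
    rw [MonObj.comp_mul, h1, h2, pm_mul e he, MonObj.comp_mul, MonObj.comp_mul, MonObj.comp_mul]
  have key : ∀ (g : P ⟶ R) (k : M), o ≫ g = o ≫ w ≫ t ≫ pm e k → o ≫ lift g w = (o ≫ w) ≫ incl e t k :=
    fun g k hk => by rw [comp_lift, hk, incl, comp_lift, Category.comp_id, Category.assoc]
  show o ≫ _ = o ≫ _
  rw [MonObj.comp_mul, ← Category.assoc, ← Category.assoc, ← Category.assoc, key _ _ h1, key _ _ h2, key _ _ h3,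
    Category.assoc, Category.assoc, Category.assoc, h]
  simp only [MonObj.comp_mul, Category.assoc]

include he in
theorem mul_of_isHomFamily {Q G : Over S} [GrpObj G] (t : Q ⟶ Over.mk f) (φ : R ⊗ Q ⟶ G)
    (h : AutFam.IsHomFamily R G φ) (m n : M) :
    incl e t (m * n) ≫ φ = (incl e t m ≫ φ) * (incl e t n ≫ φ) := by
  rw [incl, pm_mul e he, MonObj.comp_mul]
  exact h _ _ _ _

/-- The characters of a family of homomorphisms. -/
noncomputable def charHom {Q G : Over S} [GrpObj G] (t : Q ⟶ Over.mk f) (φ : R ⊗ Q ⟶ G)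
    (h : AutFam.IsHomFamily R G φ) : M →* (Q ⟶ G) :=
  MonoidHom.mk' (fun m => incl e t m ≫ φ) (mul_of_isHomFamily e he t φ h)

end Const

/-! ### The dual -/

section Dual

variable {R : Over S} [GrpObj R] {M : Type} [CommGroup M] (e : Red.bc f R ≅ TwC.const X M)
  (he : TwC.IsConstGrp M (Red.bc f R) e)

/-- The projection to the member. -/
noncomputable def tD : DSb f (Additive M) ⟶ Over.mk f := Over.homMk (Red.DS X (Additive M)).hom rfl

/-- The character of index `m`. -/
noncomputable def chM {T : Over S} (v : T ⟶ DSb f (Additive M)) (m : M) : T ⟶ Red.Gm S :=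
  chHom v (Multiplicative.ofAdd (Additive.ofMul m))

include he in
theorem exists_dual : ∃ υ : R ⊗ DSb f (Additive M) ⟶ Red.Gm S, AutFam.IsHomFamily R (Red.Gm S) υ ∧
    (∀ (T : Over S) (x : T.left ⟶ X), x ≫ f = T.hom → ∀ φ : R ⊗ T ⟶ Red.Gm S, AutFam.IsHomFamily R (Red.Gm S) φ →
      ∃! v : T ⟶ DSb f (Additive M), v.left ≫ (Red.DS X (Additive M)).hom = x ∧ (R ◁ v) ≫ υ = φ) ∧
    ∀ (T : Over S) (v : T ⟶ DSb f (Additive M)) (m : M),
      incl e (v ≫ tD) m ≫ (R ◁ v) ≫ υ = chM v m := by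
  obtain ⟨υ, hυ⟩ := exists_fam e tD (chM (𝟙 (DSb f (Additive M))))
  have key : ∀ (T : Over S) (v : T ⟶ DSb f (Additive M)) (m : M),
      incl e (v ≫ tD) m ≫ (R ◁ v) ≫ υ = chM v m := fun T v m => by
    rw [← Category.assoc, ← comp_incl, Category.assoc, hυ, chM, chM, ← chHom_comp, Category.comp_id]
  refine ⟨υ, isHomFamily_of_mul e he tD υ fun m n => ?_, fun T x hx φ hφ => ?_, key⟩
  · rw [hυ, hυ, hυ, chM, chM, chM, ← map_mul]
    rfl
  let t : T ⟶ Over.mk f := Over.homMk x hx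
  let χ : Multiplicative (Additive M) →* (T ⟶ Red.Gm S) :=
    { toFun := fun a => charHom e he t φ hφ a.toAdd.toMul
      map_one' := (charHom e he t φ hφ).map_one
      map_mul' := fun a b => (charHom e he t φ hφ).map_mul a.toAdd.toMul b.toAdd.toMul }
  obtain ⟨v, ⟨hv1, hv2⟩, hvu⟩ := existsUnique_char x hx χ
  have htD : ∀ w : T ⟶ DSb f (Additive M), w.left ≫ (Red.DS X (Additive M)).hom = x → w ≫ tD = t :=
    fun w hw => Over.OverMorphism.ext hw
  refine ⟨v, ⟨hv1, fam_ext e t fun m => ?_⟩, fun w hw => hvu w ⟨hw.1, MonoidHom.ext fun a => ?_⟩⟩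
  · rw [← htD v hv1, key, chM, hv2, htD v hv1]
    rfl
  · show chM w a.toAdd.toMul = incl e t a.toAdd.toMul ≫ φ
    rw [← key, ← hw.2, htD w hw.1]

end Dual

variable {R : Over S} [GrpObj R]

/-- A local comparison of a representing group with the diagonalisable group is a homomorphism. -/
theorem isMonHom_comparison {M : Type} [CommGroup M] (e : Red.bc f R ≅ TwC.const X M)
    (υ : R ⊗ DSb f (Additive M) ⟶ Red.Gm S)
    (key : ∀ (T : Over S) (v : T ⟶ DSb f (Additive M)) (m : M), incl e (v ≫ tD) m ≫ (R ◁ v) ≫ υ = chM v m)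
    {D : Over S} [GrpObj D] {w : R ⊗ D ⟶ Red.Gm S}
    (hw : ∀ (P : Over S) (r : P ⟶ R) (a b : P ⟶ D), lift r (a * b) ≫ w = (lift r a ≫ w) * (lift r b ≫ w))
    (k : Red.bc f D ⟶ Red.DS X (Additive M))
    (hk : ∀ (P : Over X) (a : P ⟶ Red.bc f D),
      (R ◁ ((Over.map f).map (a ≫ k) : (Over.map f).obj P ⟶ DSb f (Additive M))) ≫ υ = (R ◁ DSPtsLib.theta f a) ≫ w) :
    IsMonHom k := by
  refine WittEndoLib.isMonHom_of_mul k fun P a b => ?_
  let T : Over S := (Over.map f).obj P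
  let v : (P ⟶ Red.DS X (Additive M)) → (T ⟶ DSb f (Additive M)) := fun y => (Over.map f).map y
  have hx : ∀ y, (v y).left ≫ (Red.DS X (Additive M)).hom = P.hom := fun y => Over.w y
  let t : T ⟶ Over.mk f := Over.homMk P.hom rfl
  have ht : ∀ y, v y ≫ tD = t := fun y => Over.OverMorphism.ext (hx y)
  have hch : ∀ (c : P ⟶ Red.bc f D) (m : M),
      chM (v (c ≫ k)) m = lift (t ≫ pm e m) (DSPtsLib.theta f c) ≫ w := fun c m => by
    rw [← key, ht, hk, incl, lift_whiskerLeft_assoc, Category.id_comp]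
  have hv : v ((a * b) ≫ k) = v ((a ≫ k) * (b ≫ k)) :=
    (existsUnique_char (f := f) (T := T) P.hom rfl (chHom (v ((a ≫ k) * (b ≫ k))))).unique
      ⟨hx _, MonoidHom.ext fun z => by
        show chM (v ((a * b) ≫ k)) z.toAdd.toMul = chHom (v ((a ≫ k) * (b ≫ k))) z
        rw [hch, DSPtsLib.theta_mul, hw, ← hch, ← hch]
        exact (chHom_mul (a ≫ k) (b ≫ k) z).symm⟩
      ⟨hx _, rfl⟩
  exact Over.OverMorphism.ext (congrArg (fun m : T ⟶ DSb f (Additive M) => m.left) hv)

/-- The multiplicative group is commutative. -/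
theorem isCommMonObj_Gm (S : Scheme.{u}) : IsCommMonObj (Red.Gm S) :=
  GrpSchLib.RankOne.isCommMonObj_bc (IsTerminal.from specULiftZIsTerminal S) (Red.diag (ULift.{u} ℤ) ℤ)

/-- The dual of a commutative twisted constant group is a group of multiplicative type. -/
theorem exists_dual_group {R : Over S} [GrpObj R]
    (hR : TwC.Locally S TwC.Topology.fpqc (fun S' f => ∃ (M : Type) (_ : Group M) (e : Red.bc f R ≅ TwC.const S' M),
      TwC.IsConstGrp M (Red.bc f R) e))
    (hcomm : ∀ (X : Over S) (a b : X ⟶ R), a * b = b * a) :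
    ∃ (D : Over S) (_ : GrpObj D) (υ : R ⊗ D ⟶ Red.Gm S), AutFam.RepresentsHom R (Red.Gm S) D υ ∧
      (∀ (X : Over S) (r : X ⟶ R) (a b : X ⟶ D), lift r (a * b) ≫ υ = (lift r a ≫ υ) * (lift r b ≫ υ)) ∧
      TwC.Locally S TwC.Topology.fpqc (fun S' f => ∃ (M : Type) (_ : AddCommGroup M),
        Nonempty (Grp.mk (Red.bc f D) ≅ Grp.mk (Red.DS S' M))) := by
  obtain ⟨S', f₀, hfl, hsurj, hqc, hloc⟩ := hR
  choose U hU M hG e he using hloc
  let F : ∀ s : S', (U s : Scheme.{u}) ⟶ S := fun s => (U s).ι ≫ f₀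
  letI hC : ∀ s, CommGroup (M s) := fun s =>
    { hG s with
      mul_comm := fun m n => by
        haveI : Nonempty (U s : Scheme.{u}) := ⟨⟨s, hU s⟩⟩
        apply pm_injective (e s)
        rw [pm_mul (e s) (he s), pm_mul (e s) (he s)]
        exact hcomm _ _ _ }
  choose υ hυ hun key using fun s => exists_dual (f := F s) (e s) (he s)
  have hf : Presieve.ofArrows (fun s => (U s : Scheme.{u})) F ∈ Scheme.fpqcPrecoverage S := by
    have h1 : FpqcDescLib.IsCovering f₀ := FpqcDescLib.isCovering_of_flat f₀ hqc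
    rw [FpqcDescLib.IsCovering, ← Presieve.ofArrows_pUnit.{u}] at h1
    have hUcov : TopologicalSpace.IsOpenCover U := by
      rw [TopologicalSpace.IsOpenCover, eq_top_iff]
      exact fun x _ => TopologicalSpace.Opens.mem_iSup.mpr ⟨x, hU x⟩
    have h2 : Presieve.ofArrows (fun s => (U s : Scheme.{u})) (fun s => (U s).ι) ∈ Scheme.fpqcPrecoverage S' :=
      Scheme.zariskiPrecoverage_le_fpqcPrecoverage _ (S'.openCoverOfIsOpenCover U hUcov).mem₀
    have h3 := Precoverage.comp_mem_coverings (fun _ : PUnit.{u+1} => f₀) h1 (fun _ s => (U s).ι) fun _ => h2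
    convert h3 using 1
    clear h3
    refine le_antisymm (fun T g hg => ?_) fun T g hg => ?_
    · obtain ⟨s⟩ := hg
      exact Presieve.ofArrows.mk (⟨PUnit.unit, s⟩ : Σ _ : PUnit.{u+1}, ↥S')
    · obtain ⟨i⟩ := hg
      exact Presieve.ofArrows.mk i.2
  have hV : ∀ s, RepDesc.IsUnivOn F R (Red.Gm S) s (Red.DS (U s : Scheme.{u}) (Additive (M s))) (υ s) :=
    fun s => ⟨hυ s, hun s⟩
  haveI hA : ∀ s, IsAffine (Red.diag (ULift.{u} ℤ) (Additive (M s))).left := fun s =>
    inferInstanceAs (IsAffine (Spec _))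
  haveI : ∀ s, IsAffineHom (Red.DS (U s : Scheme.{u}) (Additive (M s))).hom := fun s =>
    MorphismProperty.pullback_snd (P := @IsAffineHom) _ _ (isAffineHom_of_isAffine _)
  obtain ⟨D, w, hD⟩ := RepDesc.exists_representsHom hf _ υ hV fun s => DescLib.indQA_of_isAffineHom _
  haveI := isCommMonObj_Gm S
  obtain ⟨hDg, hmul⟩ := RepDesc.exists_grpObj hD
  refine ⟨D, hDg, w, hD, hmul, S', f₀, hfl, hsurj, hqc, fun s => ⟨U s, hU s, Additive (M s), inferInstance, ?_⟩⟩
  obtain ⟨k, hk⟩ := RepDesc.exists_iso hD (hV s)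
  haveI : IsMonHom k.hom := isMonHom_comparison (e s) (υ s) (key s) hmul k.hom fun P a => by
    refine Eq.trans ?_ ((hk _ ((Over.map (F s)).map a)).trans ?_)
    · exact congrArg (fun m => (R ◁ m) ≫ υ s) (Over.OverMorphism.ext rfl)
    · exact congrArg (fun m => (R ◁ m) ≫ w) (Over.OverMorphism.ext rfl)
  exact ⟨Grp.mkIso' k⟩

end Groth.Agent.Dual.TwConst
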